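import Groth.Agent.Castel.Inter
import Groth.Agent.Castel.InterForm

/-!
Degrees on a complete curve in the closed fibre of a proper scheme over a local ring.
-/

set_option autoImplicit false
set_option backward.isDefEq.respectTransparency false
set_option backward.isDefEq.respectTransparency.types false
set_option linter.style.haveILetI false

universe u

open CategoryTheory CategoryTheory.Limits AlgebraicGeometry TopologicalSpace Opposite

noncomputable section

namespace Groth.Agent.NegDef

variable {R : Type u} [CommRing R] [IsLocalRing R] {C Y : Scheme.{u}} (π : Y ⟶ Spec (CommRingCat.of R))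
  (q : C ⟶ Spec (CommRingCat.of (IsLocalRing.ResidueField R))) (e : C ⟶ Y)

theorem isProper_of_fac [IsProper π] [IsClosedImmersion e]
    (w : e ≫ π = q ≫ Spec.map (CommRingCat.ofHom (IsLocalRing.residue R))) : IsProper q := by
  haveI : IsProper (q ≫ Spec.map (CommRingCat.ofHom (IsLocalRing.residue R))) := by rw [← w]; infer_instance
  exact IsProper.of_comp q (Spec.map (CommRingCat.ofHom (IsLocalRing.residue R)))

/-- The degree of the restriction of a module to the curve. -/
def degM (M : Y.Modules) : ℤ :=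
  @Curv2.deg (IsLocalRing.ResidueField R) _ C ⟨q⟩ ((Scheme.Modules.pullback e).obj M) 1

variable [IsProper q] [IsIntegral C] (hdim : topologicalKrullDim C ≤ 1)
include hdim

theorem degM_tensor {L M : Y.Modules} (hL : PicF.IsInvertible L) (hM : PicF.IsInvertible M) :
    degM q e (CohB1.tensorMod L M) = degM q e L + degM q e M := by
  letI : C.Over (Spec (CommRingCat.of (IsLocalRing.ResidueField R))) := ⟨q⟩
  haveI : IsProper (C ↘ Spec (CommRingCat.of (IsLocalRing.ResidueField R))) := inferInstanceAs (IsProper q)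
  obtain ⟨p⟩ := TMul.nonempty_pullTensorIso e L M
  rw [degM, degM, degM, ← CurveRR.deg_tensor_inv hdim (PicLoc.isInvertible_pullback e hL)
    (PicLoc.isInvertible_pullback e hM), Curv2.deg, Curv2.deg, CurveRR.euler_eq_of_iso p]

omit hdim in
theorem degM_congr {L M : Y.Modules} (i : L ≅ M) : degM q e L = degM q e M := by
  letI : C.Over (Spec (CommRingCat.of (IsLocalRing.ResidueField R))) := ⟨q⟩
  rw [degM, degM, Curv2.deg, Curv2.deg, CurveRR.euler_eq_of_iso ((Scheme.Modules.pullback e).mapIso i)]

omit hdim in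
theorem degM_structure : degM q e (Coh.structureModule Y) = 0 := by
  letI : C.Over (Spec (CommRingCat.of (IsLocalRing.ResidueField R))) := ⟨q⟩
  rw [degM, Curv2.deg, CurveRR.euler_eq_of_iso (PicLoc.pullbackStructureIso e)]
  simp

theorem degM_inverse {L : Y.Modules} {I : Y.IdealSheafData} (hI : BlowUp.IsEffCartierIdeal I)
    (hL : ClSub.IsInverseOf L (ClSub.idealMod I)) : degM q e L = - degM q e (ClSub.idealMod I) := by
  have hIi := (Groth.Agent.S8914.result _).2 hI
  have hLi := Castel.isInvertible_of_isInverseOf hIi hL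
  obtain ⟨i⟩ := hL
  have h := degM_tensor q e hdim hLi hIi
  rw [degM_congr q e i, degM_structure q e] at h
  omega

theorem degM_idealMod_mul {I J : Y.IdealSheafData} (hI : BlowUp.IsEffCartierIdeal I)
    (hJ : BlowUp.IsEffCartierIdeal J) :
    degM q e (ClSub.idealMod (I * J)) = degM q e (ClSub.idealMod I) + degM q e (ClSub.idealMod J) := by
  obtain ⟨μ⟩ := Nakai.nonempty_idealMod_mul hI hJ
  rw [← degM_congr q e μ, degM_tensor q e hdim ((Groth.Agent.S8914.result _).2 hI) ((Groth.Agent.S8914.result _).2 hJ)]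

theorem degM_idealMod_top : degM q e (ClSub.idealMod (⊤ : Y.IdealSheafData)) = 0 := by
  have h := degM_idealMod_mul q e hdim (BlowUpLib.cartier_top (X := Y)) BlowUpLib.cartier_top
  rw [show (⊤ : Y.IdealSheafData) * ⊤ = ⊤ by rw [← Scheme.IdealSheafData.one_eq_top, one_mul]] at h
  omega

theorem degM_idealMod_pow {I : Y.IdealSheafData} (hI : BlowUp.IsEffCartierIdeal I) :
    ∀ a : ℕ, degM q e (ClSub.idealMod (I ^ a)) = a * degM q e (ClSub.idealMod I)
  | 0 => by rw [pow_zero, Scheme.IdealSheafData.one_eq_top, degM_idealMod_top q e hdim]; simp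
  | a + 1 => by
    rw [pow_succ, degM_idealMod_mul q e hdim (DivPart.cartier_pow hI a) hI, degM_idealMod_pow hI a]
    push_cast
    ring

theorem degM_idealMod_prod {σ : Type} (s : Finset σ) (I : σ → Y.IdealSheafData)
    (hI : ∀ i, BlowUp.IsEffCartierIdeal (I i)) :
    BlowUp.IsEffCartierIdeal (∏ i ∈ s, I i) ∧
      degM q e (ClSub.idealMod (∏ i ∈ s, I i)) = ∑ i ∈ s, degM q e (ClSub.idealMod (I i)) := by
  classical
  induction s using Finset.induction with
  | empty =>
    rw [Finset.prod_empty, Finset.sum_empty, Scheme.IdealSheafData.one_eq_top]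
    exact ⟨BlowUpLib.cartier_top, degM_idealMod_top q e hdim⟩
  | insert a s ha ih =>
    rw [Finset.prod_insert ha, Finset.sum_insert ha, degM_idealMod_mul q e hdim (hI a) ih.1, ih.2]
    exact ⟨BlowUpLib.cartier_mul (hI a) ih.1, rfl⟩

/-- The degree of an effective divisor not containing the curve is the length of the intersection. -/
theorem degM_eq_h0 {D : Y.IdealSheafData} (hD : BlowUp.IsEffCartierIdeal D)
    (hC : e (genericPoint C) ∉ (D.support : Set Y)) {L : Y.Modules} (hL : ClSub.IsInverseOf L (ClSub.idealMod D)) :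
    letI : C.Over (Spec (CommRingCat.of (IsLocalRing.ResidueField R))) := ⟨q⟩
    degM q e L = CurveRR.h (IsLocalRing.ResidueField R) (ClSub.quotMod (D.comap e)) 0 := by
  letI : C.Over (Spec (CommRingCat.of (IsLocalRing.ResidueField R))) := ⟨q⟩
  haveI : IsProper (C ↘ Spec (CommRingCat.of (IsLocalRing.ResidueField R))) := inferInstanceAs (IsProper q)
  have hD' := PtBlow.cartier_comap_generic e hD hC
  have hLi := Castel.isInvertible_of_isInverseOf ((Groth.Agent.S8914.result _).2 hD) hL
  have hL'i := PicLoc.isInvertible_pullback e hLi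
  obtain ⟨i⟩ := hL
  obtain ⟨p⟩ := TMul.nonempty_pullTensorIso e L (ClSub.idealMod D)
  obtain ⟨n⟩ := Nakai.nonempty_pullback_idealMod e hD hD'
  have hq : CohB1.tensorMod (ClSub.idealMod (D.comap e)) ((Scheme.Modules.pullback e).obj L) ≅
      Coh.structureModule C :=
    TMul.commIso _ _ ≪≫ PicGrp.tensorModIso (Iso.refl _) n.symm ≪≫ p ≪≫
      (Scheme.Modules.pullback e).mapIso i ≪≫ PicLoc.pullbackStructureIso e
  have h1 := CurveRR.euler_ideal_tensor (k := IsLocalRing.ResidueField R) hL'i (D.comap e)
    (CurveRR.cartier_dim_le_zero hdim hD')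
  rw [CurveRR.euler_eq_of_iso hq] at h1
  simp only [degM, Curv2.deg, Nat.cast_one, one_mul]
  linarith

theorem degM_nonneg {D : Y.IdealSheafData} (hD : BlowUp.IsEffCartierIdeal D)
    (hC : e (genericPoint C) ∉ (D.support : Set Y)) {L : Y.Modules} (hL : ClSub.IsInverseOf L (ClSub.idealMod D)) :
    0 ≤ degM q e L ∧ ((∃ z, e z ∈ (D.support : Set Y)) → 0 < degM q e L) := by
  letI : C.Over (Spec (CommRingCat.of (IsLocalRing.ResidueField R))) := ⟨q⟩
  haveI : IsProper (C ↘ Spec (CommRingCat.of (IsLocalRing.ResidueField R))) := inferInstanceAs (IsProper q)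
  rw [degM_eq_h0 q e hdim hD hC hL]
  refine ⟨Nat.cast_nonneg _, fun ⟨z, hz⟩ => Nat.cast_pos.2 (CurveRR.h0_quotMod_pos (D.comap e) ⟨z, ?_⟩)⟩
  rw [Scheme.IdealSheafData.support_comap]
  exact hz

omit hdim

/-- The length of the intersection with the curve, over the local ring. -/
theorem length_quotMod_sup [IsClosedImmersion e]
    (w : e ≫ π = q ≫ Spec.map (CommRingCat.ofHom (IsLocalRing.residue R))) (D : Y.IdealSheafData) :
    letI : C.Over (Spec (CommRingCat.of (IsLocalRing.ResidueField R))) := ⟨q⟩
    letI : Y.Over (Spec (CommRingCat.of R)) := ⟨π⟩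
    Module.length R (Coh.HH Y (ClSub.quotMod (D ⊔ e.ker)) 0) =
      CurveRR.h (IsLocalRing.ResidueField R) (ClSub.quotMod (D.comap e)) 0 := by
  let k := IsLocalRing.ResidueField R
  letI : C.Over (Spec (CommRingCat.of k)) := ⟨q⟩
  letI : Y.Over (Spec (CommRingCat.of R)) := ⟨π⟩
  haveI : IsProper (C ↘ Spec (CommRingCat.of k)) := inferInstanceAs (IsProper q)
  haveI : IsLocallyNoetherian C := LocallyOfFiniteType.isLocallyNoetherian (C ↘ Spec (CommRingCat.of k))
  let q' : C ⟶ Spec (CommRingCat.of R) := q ≫ Spec.map (CommRingCat.ofHom (IsLocalRing.residue R))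
  let Q := ClSub.quotMod (D.comap e)
  obtain ⟨i⟩ := Castel.nonempty_quotMod_sup e D
  haveI : Coh.IsQCoh Q := (CurveRR.isCoh_idealMod (D.comap e)).2.1
  letI : C.Over (Spec (CommRingCat.of R)) := ⟨q'⟩
  obtain ⟨b⟩ := CohFinite.hh_push_linear (A := R) e w Q (CohQC.directAcyclic_of_isAffineHom e _) 0
  haveI : IsScalarTower R k (Coh.HH C Q 0) := by
    refine IsScalarTower.of_algebraMap_smul fun r x => ?_
    have h : Coh.toGlobal (C ↘ Spec (CommRingCat.of k)) (IsLocalRing.residue R r) =
        Coh.toGlobal (C ↘ Spec (CommRingCat.of R)) r := by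
      have hn := ConcreteCategory.congr_hom
        (Scheme.ΓSpecIso_inv_naturality (CommRingCat.ofHom (IsLocalRing.residue R))) r
      show q.appTop ((Scheme.ΓSpecIso _).inv (IsLocalRing.residue R r)) = q'.appTop ((Scheme.ΓSpecIso _).inv r)
      rw [Scheme.Hom.comp_appTop]
      exact congrArg (fun z => q.appTop z) hn
    show (Coh.toGlobal (C ↘ Spec (CommRingCat.of k)) (IsLocalRing.residue R r) : Coh.Γtop C) • x =
      (Coh.toGlobal (C ↘ Spec (CommRingCat.of R)) r : Coh.Γtop C) • x
    rw [h]
  have hlen : Module.length R (Coh.HH Y (ClSub.quotMod (D ⊔ e.ker)) 0) = Module.length R (Coh.HH C Q 0) := by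
    rw [b.length_eq]
    exact (CohFinite.hhEquiv (A := R) i 0).symm.length_eq
  haveI : Module.Finite k (Coh.HH C Q 0) :=
    CohFinite.finite_proper (A := k) C Q (CurveRR.isCoh_idealMod (D.comap e)).2 0
  rw [hlen, Module.length_eq_of_surjective (R := k) IsLocalRing.residue_surjective, Module.length_eq_finrank]

end Groth.Agent.NegDef
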