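import Groth.Agent.PtBlow.Negativity
import Groth.Agent.W7Fib.Birat
import Groth.Agent.DimFormula.Dims
import Groth.Agent.SpCartier.AffineCompl

/-!
Curves in the closed fibre of a birational model of a two-dimensional local domain, and the residual of an effective
Cartier divisor along given prime divisors.
-/

set_option autoImplicit false
set_option backward.isDefEq.respectTransparency false
set_option backward.isDefEq.respectTransparency.types false
set_option linter.style.haveILetI false

universe u

open CategoryTheory CategoryTheory.Limits AlgebraicGeometry TopologicalSpace Opposite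
open Groth.Agent Groth.Agent.Unibranch Groth.Agent.DimFormula

noncomputable section

namespace Groth.Agent.NegDef

theorem birat_generic {X Y : Scheme.{u}} [IsIntegral X] [IsIntegral Y] (f : X ⟶ Y) (U : Y.Opens)
    (hU : (U : Set Y).Nonempty) [IsIso (f ∣_ U)] :
    f (genericPoint X) = genericPoint Y ∧ ∀ y, f y = genericPoint Y → y = genericPoint X := by
  have hηU : genericPoint Y ∈ U := ((genericPoint_spec Y).mem_open_set_iff U.2).mpr (by simpa using hU)
  obtain ⟨p, hp⟩ := (f ∣_ U).surjective ⟨_, hηU⟩
  have hp' : f p.1 = genericPoint Y := by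
    have := congrArg Subtype.val hp
    rwa [morphismRestrict_base_coe] at this
  have hfζ : f (genericPoint X) = genericPoint Y :=
    ((((genericPoint_specializes p.1).map f.continuous).trans (specializes_of_eq hp')).antisymm
      (genericPoint_specializes _)).eq
  refine ⟨hfζ, fun y hy => ?_⟩
  have : (⟨y, show f y ∈ U from hy ▸ hηU⟩ : (f ⁻¹ᵁ U).toScheme) =
      ⟨genericPoint X, show f (genericPoint X) ∈ U from hfζ ▸ hηU⟩ := by
    refine (f ∣_ U).homeomorph.injective (Subtype.ext ?_)
    show ((f ∣_ U) _).val = ((f ∣_ U) _).val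
    rw [morphismRestrict_base_coe, morphismRestrict_base_coe]
    exact hy.trans hfζ.symm
  exact congrArg Subtype.val this

theorem genericPoint_ne_closedPoint {A : Type u} [CommRing A] [IsDomain A] [IsLocalRing A]
    (h : ringKrullDim A = 2) : genericPoint (Spec (CommRingCat.of A)) ≠ IsLocalRing.closedPoint A := by
  intro he
  have hb : genericPoint (Spec (CommRingCat.of A)) = (⟨⊥, Ideal.isPrime_bot⟩ : PrimeSpectrum A) :=
    genericPoint_eq_bot_of_affine (CommRingCat.of A)
  have hm : IsLocalRing.maximalIdeal A = ⊥ := (congrArg PrimeSpectrum.asIdeal (he.symm.trans hb) :)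
  rw [ringKrullDim_eq_zero_of_isField (IsLocalRing.isField_iff_maximalIdeal_eq.2 hm)] at h
  exact absurd h (by decide)

/-- The generic point of a curve in the closed fibre of a birational model has codimension one. -/
theorem ringKrullDim_stalk_eq_one {A : Type u} [CommRing A] [IsDomain A] [IsNoetherianRing A] [IsLocalRing A]
    (hA : ringKrullDim A = 2) {X : Scheme.{u}} [IsIntegral X] (f : X ⟶ Spec (CommRingCat.of A))
    [LocallyOfFiniteType f] (U : (Spec (CommRingCat.of A)).Opens)
    (hU : (U : Set (Spec (CommRingCat.of A))).Nonempty) [IsIso (f ∣_ U)] {x z : X} (hxz : x ⤳ z) (hne : x ≠ z)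
    (hx : f x = IsLocalRing.closedPoint A) (hz : f z = IsLocalRing.closedPoint A) :
    ringKrullDim (X.presheaf.stalk x) = 1 := by
  haveI : IsLocallyNoetherian X := LocallyOfFiniteType.isLocallyNoetherian f
  obtain ⟨hη, hinj⟩ := birat_generic f U hU
  obtain ⟨a, ha, hle, ζ, hζm, -, hge⟩ := exists_ringKrullDim_stalk x
  have hζ : ζ = genericPoint X := (hζm _ (genericPoint_specializes ζ)).symm
  subst hζ
  have hxζ : genericPoint X ≠ x := fun e => genericPoint_ne_closedPoint hA (by rw [← hη, e, hx])
  have h1 : 1 ≤ a := hle 1 ![genericPoint X, x]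
    (fun i => by fin_cases i; exact ⟨genericPoint_specializes _, hxζ⟩) rfl
  have h2 := dimension_inequality f (ζ := genericPoint X) (x := x) (genericPoint_specializes _) (a := a) (c := 2)
    (d := 1) (e := 0) hge
    (fun n c' h1 _ _ => by
      have := (W7Fib.length_le_of_chain c' h1).trans hA.le
      exact_mod_cast this)
    ⟨![x, z], fun i => by
      fin_cases i
      · exact ⟨subset_closure rfl, rfl⟩
      · exact ⟨specializes_iff_mem_closure.mp hxz, hz.trans hx.symm⟩,
      fun i => by fin_cases i; exact ⟨hxz, hne⟩⟩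
    (fun n c' h1 h2 => by
      rcases n with _ | n
      · exact le_rfl
      exact absurd ((hinj _ ((h1 _).2.trans hη)).trans (hinj _ ((h1 _).2.trans hη)).symm) (h2 0).2)
  rw [ha, show a = 1 by omega]
  rfl

/-- A point of a one-dimensional integral scheme is not alone. -/
theorem exists_ne {C : Scheme.{u}} [IsIntegral C] (hC : topologicalKrullDim C = 1) :
    ∃ z : C, z ≠ genericPoint C := by
  by_contra! h
  have h0 : topologicalKrullDim C ≤ ((0 : ℕ) : WithBot ℕ∞) :=
    Unibranch.topologicalKrullDim_le_natCast fun l c hc => by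
      rcases l with _ | l
      · exact le_rfl
      · exact absurd ((h _).trans (h _).symm) (hc 0).2
  rw [hC] at h0
  exact absurd h0 (by decide)

/-- An integral curve in the closed fibre is an effective Cartier divisor when the local rings are factorial. -/
theorem cartier_ker {A : Type u} [CommRing A] [IsDomain A] [IsNoetherianRing A] [IsLocalRing A]
    (hA : ringKrullDim A = 2) {X : Scheme.{u}} [IsIntegral X] (f : X ⟶ Spec (CommRingCat.of A))
    [LocallyOfFiniteType f] (U : (Spec (CommRingCat.of A)).Opens)
    (hU : (U : Set (Spec (CommRingCat.of A))).Nonempty) [IsIso (f ∣_ U)]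
    (hX : ∀ x : X, IsRegularLocalRing (X.presheaf.stalk x)) {C : Scheme.{u}} (i : C ⟶ X) [IsClosedImmersion i]
    [IsIntegral C] (hC : topologicalKrullDim C = 1) (hf : ∀ z, f (i z) = IsLocalRing.closedPoint A) :
    BlowUp.IsEffCartierIdeal i.ker := by
  haveI : IsLocallyNoetherian X := LocallyOfFiniteType.isLocallyNoetherian f
  haveI : IsIso i.toImage := inferInstance
  haveI : Nonempty i.ker.subscheme := ⟨i.toImage (genericPoint C)⟩
  haveI : IsIntegral i.ker.subscheme := isIntegral_of_isOpenImmersion (inv i.toImage)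
  have hr : Set.range i.ker.subschemeι = Set.range i := by
    rw [Scheme.IdealSheafData.range_subschemeι, Scheme.Hom.support_ker]
    exact i.isClosedEmbedding.isClosed_range.closure_eq
  obtain ⟨z₀, hz₀⟩ := hr.subset ⟨genericPoint i.ker.subscheme, rfl⟩
  obtain ⟨z, hz⟩ : ∃ z : C, z ≠ z₀ := by
    obtain ⟨w, hw⟩ := exists_ne hC
    by_cases h : w = z₀
    · exact ⟨genericPoint C, fun e => hw (h.trans e.symm)⟩
    · exact ⟨w, h⟩
  refine Groth.Agent.S1684.result X i.ker (ringKrullDim_stalk_eq_one hA f U hU (z := i z) ?_ ?_ ?_ (hf z))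
    fun x _ => ?_
  · obtain ⟨w, hw⟩ := hr.symm.subset ⟨z, rfl⟩
    rw [← hw]
    exact (genericPoint_specializes w).map i.ker.subschemeι.continuous
  · rw [← hz₀]
    exact fun e => hz (i.isClosedEmbedding.injective e).symm
  · rw [← hz₀]; exact hf z₀
  · haveI := hX x
    exact Groth.Agent.S2821.result _

/-- An ideal vanishing at the generic point of a reduced closed subscheme is contained in its ideal. -/
theorem le_ker_of_mem_support {C X : Scheme.{u}} [IsIntegral C] (i : C ⟶ X) [IsClosedImmersion i]
    (J : X.IdealSheafData) (hJ : i (genericPoint C) ∈ (J.support : Set X)) : J ≤ i.ker := by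
  refine (Scheme.IdealSheafData.le_radical _).trans ?_
  rw [← Scheme.IdealSheafData.vanishingIdeal_support, SpCartier.ker_eq_vanishingIdeal i]
  refine Scheme.IdealSheafData.vanishingIdeal_antimono ?_
  show (i.ker.support : Set X) ⊆ _
  rw [Scheme.Hom.support_ker, i.isClosedEmbedding.isClosed_range.closure_eq]
  rintro _ ⟨z, rfl⟩
  exact ((genericPoint_specializes z).map i.continuous).mem_closed J.support.isClosed hJ

/-- The generic point of a curve lies on no other curve. -/
theorem genPt_notMem {C₁ C₂ X : Scheme.{u}} [IsIntegral C₁] [IsIntegral C₂] (i₁ : C₁ ⟶ X) (i₂ : C₂ ⟶ X)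
    [IsClosedImmersion i₁] [IsClosedImmersion i₂] (h₁ : topologicalKrullDim C₁ = 1) (h₂ : topologicalKrullDim C₂ = 1)
    (hne : Set.range i₁ ≠ Set.range i₂) :
    i₁ (genericPoint C₁) ∉ (i₂.ker.support : Set X) := by
  rw [Scheme.Hom.support_ker, i₂.isClosedEmbedding.isClosed_range.closure_eq]
  rintro ⟨z, hz⟩
  have hcl : ∀ p, i₂ z ⤳ i₁ p := fun p => hz ▸ (genericPoint_specializes p).map i₁.continuous
  by_cases hzg : z = genericPoint C₂
  · refine hne (subset_antisymm ?_ ?_)
    · rintro _ ⟨p, rfl⟩
      exact (hcl p).mem_closed i₂.isClosedEmbedding.isClosed_range ⟨z, rfl⟩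
    · rintro _ ⟨w, rfl⟩
      exact ((genericPoint_specializes w).map i₂.continuous).mem_closed i₁.isClosedEmbedding.isClosed_range
        ⟨_, (hzg ▸ hz).symm⟩
  · obtain ⟨p, hp⟩ := exists_ne h₁
    have hq : i₁ p ≠ i₂ z := fun e => hp (i₁.isClosedEmbedding.injective (e.trans hz))
    obtain ⟨w, hw⟩ := (hcl p).mem_closed i₂.isClosedEmbedding.isClosed_range ⟨z, rfl⟩
    have h1 : z ⤳ w := i₂.isEmbedding.isInducing.specializes_iff.1 (hw ▸ hcl p)
    have hwne : z ≠ w := fun e => hq (by rw [← hw, e])
    have h3 := Unibranch.natCast_le_topologicalKrullDim (α := C₂) (k := 2)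
      ![genericPoint C₂, z, w] (Fin.forall_fin_two.2
        ⟨⟨genericPoint_specializes _, fun e => hzg e.symm⟩, ⟨h1, hwne⟩⟩)
    rw [h₂] at h3
    exact absurd h3 (by decide)

/-- Taking given prime divisors out of an effective Cartier divisor. -/
theorem exists_residual {X : Scheme.{u}} [IsIntegral X] [IsLocallyNoetherian X] {σ : Type} [Fintype σ]
    (I : σ → X.IdealSheafData) (hI : ∀ i, BlowUp.IsEffCartierIdeal (I i)) (ξ : σ → X)
    (hmem : ∀ i, ξ i ∈ ((I i).support : Set X))
    (hrad : ∀ i (J : X.IdealSheafData), ξ i ∈ (J.support : Set X) → J ≤ I i)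
    {D : X.IdealSheafData} (hD : BlowUp.IsEffCartierIdeal D) :
    ∃ (J : X.IdealSheafData) (a : σ → ℕ), BlowUp.IsEffCartierIdeal J ∧ D = J * ∏ j, I j ^ a j ∧
      ∀ i, ξ i ∉ (J.support : Set X) := by
  classical
  have hstep : ∀ s : Finset σ, ∃ (J : X.IdealSheafData) (a : σ → ℕ), BlowUp.IsEffCartierIdeal J ∧
      D = J * ∏ j ∈ s, I j ^ a j ∧ ∀ i ∈ s, ξ i ∉ (J.support : Set X) := by
    intro s
    induction s using Finset.induction with
    | empty => exact ⟨D, fun _ => 0, hD, by simp, by simp⟩
    | insert i s hi ih =>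
      obtain ⟨J, a, hJ, heq, hout⟩ := ih
      by_cases hm : ξ i ∈ (J.support : Set X)
      · obtain ⟨b, hle, hnle⟩ := PtBlow.exists_max_pow (D := I i) hJ (hmem i)
        obtain ⟨J', hJ'⟩ := ModPairProd.exists_div (DivPart.cartier_pow (hI i) b) hle
        have hJc : BlowUp.IsEffCartierIdeal J' := BlowUpLib.cartier_of_mul_left (hJ' ▸ hJ)
        refine ⟨J', Function.update a i b, hJc, ?_, fun j hj => ?_⟩
        · rw [Finset.prod_insert hi, Function.update_self, ← mul_assoc, hJ', heq]
          exact congrArg _ (Finset.prod_congr rfl fun j hj => by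
            rw [Function.update_of_ne (show j ≠ i from fun e => hi (e ▸ hj))])
        · rcases Finset.mem_insert.1 hj with rfl | hj'
          · intro h'
            refine hnle (hJ'.symm.le.trans fun W => ?_)
            rw [pow_succ', Scheme.IdealSheafData.ideal_mul, Scheme.IdealSheafData.ideal_mul]
            exact Ideal.mul_mono_left (hrad _ J' h' W)
          · intro h'
            refine hout j hj' ?_
            rw [← hJ', Scheme.IdealSheafData.support_mul]
            exact Or.inl h'
      · refine ⟨J, Function.update a i 0, hJ, ?_, fun j hj => ?_⟩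
        · rw [Finset.prod_insert hi, Function.update_self, pow_zero, one_mul, heq]
          exact congrArg _ (Finset.prod_congr rfl fun j hj => by
            rw [Function.update_of_ne (show j ≠ i from fun e => hi (e ▸ hj))])
        · rcases Finset.mem_insert.1 hj with rfl | hj'
          · exact hm
          · exact hout j hj'
  obtain ⟨J, a, hJ, ha, hout⟩ := hstep Finset.univ
  exact ⟨J, a, hJ, ha, fun i => hout i (Finset.mem_univ i)⟩

theorem mem_support_prod {X : Scheme.{u}} {σ : Type} (s : Finset σ) (I : σ → X.IdealSheafData) (a : σ → ℕ) {x : X}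
    (h : x ∈ ((∏ j ∈ s, I j ^ a j).support : Set X)) : ∃ j, a j ≠ 0 ∧ x ∈ ((I j).support : Set X) := by
  classical
  induction s using Finset.induction with
  | empty =>
    rw [Finset.prod_empty, Scheme.IdealSheafData.one_eq_top, Scheme.IdealSheafData.support_top] at h
    exact absurd h (by simp)
  | insert j s hj ih =>
    rw [Finset.prod_insert hj, Scheme.IdealSheafData.support_mul] at h
    rcases h with h | h
    · exact ⟨j, PtBlow.mem_support_pow' _ _ _ h⟩
    · exact ih h

/-- A principal divisor through the closed point of a two-dimensional local domain. -/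
theorem exists_principal {A : Type u} [CommRing A] [IsDomain A] [IsNoetherianRing A] [IsLocalRing A]
    (hA : ringKrullDim A = 2) : ∃ K : (Spec (CommRingCat.of A)).IdealSheafData, BlowUp.IsEffCartierIdeal K ∧
      IsLocalRing.closedPoint A ∈ (K.support : Set (Spec (CommRingCat.of A))) ∧
      ∃ p ∈ (K.support : Set (Spec (CommRingCat.of A))), p ≠ IsLocalRing.closedPoint A := by
  have hm : IsLocalRing.maximalIdeal A ≠ ⊥ := fun h => by
    rw [ringKrullDim_eq_zero_of_isField (IsLocalRing.isField_iff_maximalIdeal_eq.2 h)] at hA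
    exact absurd hA (by decide)
  obtain ⟨f, hfm, hf0⟩ := Submodule.exists_mem_ne_zero_of_ne_bot hm
  let φ := (Scheme.ΓSpecIso (CommRingCat.of A)).inv
  let K := Scheme.IdealSheafData.ofIdealTop (X := Spec (CommRingCat.of A)) (Ideal.span {φ f})
  have hsupp : ∀ p : Spec (CommRingCat.of A), f ∈ p.asIdeal → p ∈ (K.support : Set (Spec (CommRingCat.of A))) := by
    intro p hp
    show p ∈ ((Scheme.IdealSheafData.ofIdealTop (X := Spec (CommRingCat.of A)) (Ideal.span {φ f})).support : Set _)
    rw [Scheme.IdealSheafData.coe_support_ofIdealTop, Scheme.zeroLocus_span, Spec_zeroLocus,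
      PrimeSpectrum.mem_zeroLocus]
    intro g hg
    rw [(ConcreteCategory.bijective_of_isIso φ).1 (Set.mem_singleton_iff.1 hg)]
    exact hp
  refine ⟨K, fun x => ⟨⟨⊤, isAffineOpen_top _⟩, trivial, φ f, ?_, ?_⟩, hsupp _ hfm, ?_⟩
  · refine mem_nonZeroDivisors_of_ne_zero fun h => hf0 ?_
    exact (ConcreteCategory.bijective_of_isIso φ).1 (h.trans (map_zero _).symm)
  · simp [K, Scheme.IdealSheafData.ofIdealTop_ideal]
  · have hle : Ideal.span {f} ≤ IsLocalRing.maximalIdeal A := (Ideal.span_singleton_le_iff_mem _).2 hfm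
    obtain ⟨p, hp, hpm⟩ := Ideal.exists_minimalPrimes_le hle
    haveI : p.IsPrime := hp.1.1
    refine ⟨(⟨p, ‹_›⟩ : PrimeSpectrum A), hsupp _ (hp.1.2 (Ideal.mem_span_singleton_self f)), fun e => ?_⟩
    have hpe : p = IsLocalRing.maximalIdeal A := congrArg PrimeSpectrum.asIdeal e
    have h1 : (IsLocalRing.maximalIdeal A).height ≤ 1 := by
      rw [← hpe]
      haveI : (Ideal.span {f}).IsPrincipal := ⟨⟨f, rfl⟩⟩
      exact Ideal.height_le_one_of_isPrincipal_of_mem_minimalPrimes _ _ hp
    have h2 := IsLocalRing.maximalIdeal_height_eq_ringKrullDim (R := A)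
    rw [hA] at h2
    have h3 : (IsLocalRing.maximalIdeal A).height = 2 := WithBot.coe_injective h2
    rw [h3] at h1
    exact absurd h1 (by decide)

end Groth.Agent.NegDef
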