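import Groth.Agent.NegDef.Curve
import Groth.Agent.NegDef.Surf
import Groth.Agent.Castel.InterNeg
import Groth.Agent.RatBlow.Base
import Groth.Agent.Castel.PicDescent

/-!
The intersection matrix of the exceptional curves of a resolution of a normal surface singularity is negative definite.
-/

set_option autoImplicit false
set_option backward.isDefEq.respectTransparency false
set_option backward.isDefEq.respectTransparency.types false
set_option linter.style.haveILetI false

universe u

open CategoryTheory CategoryTheory.Limits AlgebraicGeometry TopologicalSpace Opposite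

noncomputable section

namespace Groth.Agent.NegDef

theorem negDef (R : Type u) [CommRing R] [IsDomain R] [IsNoetherianRing R] [IsLocalRing R] [IsIntegrallyClosed R]
    (hdimR : ringKrullDim R = 2) (Y : Scheme.{u}) (π : Y ⟶ Spec (CommRingCat.of R)) [IsProper π] [IsIntegral Y]
    (hreg : ∀ y : Y, IsRegularLocalRing (Y.presheaf.stalk y)) (U : (Spec (CommRingCat.of R)).Opens)
    (hU : ∀ p : Spec (CommRingCat.of R), p ∈ U ↔ p ≠ IsLocalRing.closedPoint R) [IsIso (π ∣_ U)]
    {r : ℕ} (E : Fin r → Scheme.{u}) (e : ∀ i, E i ⟶ Y) [∀ i, IsClosedImmersion (e i)] [∀ i, IsIntegral (E i)]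
    (hE : ∀ i, topologicalKrullDim (E i) = 1) (s : ∀ i, E i ⟶ Spec (CommRingCat.of (IsLocalRing.ResidueField R)))
    (hs : ∀ i, e i ≫ π = s i ≫ Spec.map (CommRingCat.ofHom (IsLocalRing.residue R)))
    (hdist : ∀ i j, i ≠ j → Set.range (e i) ≠ Set.range (e j))
    (hcov : ∀ y : Y, π y ∉ U → ∃ i, y ∈ Set.range (e i))
    (L : Fin r → Y.Modules) (hL : ∀ j, ClSub.IsInverseOf (L j) (ClSub.idealMod (e j).ker))
    (x : Fin r → ℤ) (hx : x ≠ 0) : ∑ i, ∑ j, x i * x j * degM (s i) (e i) (L j) < 0 := by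
  classical
  let sp := IsLocalRing.closedPoint R
  haveI : IsLocallyNoetherian Y := LocallyOfFiniteType.isLocallyNoetherian π
  haveI : CompactSpace Y := QuasiCompact.compactSpace_of_compactSpace π
  haveI : IsNoetherian Y := {}
  have hηsp := genericPoint_ne_closedPoint hdimR
  have hUne : (U : Set (Spec (CommRingCat.of R))).Nonempty := ⟨_, (hU _).2 hηsp⟩
  have hfib : ∀ i z, π (e i z) = sp := fun i z => by
    rw [← Scheme.Hom.comp_apply, hs i, Scheme.Hom.comp_apply]
    refine PrimeSpectrum.ext ?_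
    show Ideal.comap (IsLocalRing.residue R) (s i z).asIdeal = _
    rw [(Ideal.eq_bot_or_top (s i z).asIdeal).resolve_right (s i z).isPrime.ne_top, ← RingHom.ker_eq_comap_bot,
      IsLocalRing.ker_residue]
    rfl
  haveI : ∀ i, IsProper (s i) := fun i => isProper_of_fac π (s i) (e i) (hs i)
  have hd : ∀ i, topologicalKrullDim (E i) ≤ 1 := fun i => (hE i).le
  let I := fun j => (e j).ker
  have hI : ∀ j, BlowUp.IsEffCartierIdeal (I j) := fun j => cartier_ker hdimR π U hUne hreg (e j) (hE j) (hfib j)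
  have hsI : ∀ j, ((I j).support : Set Y) = Set.range (e j) := fun j => by
    show ((e j).ker.support : Set Y) = _
    rw [Scheme.Hom.support_ker, (e j).isClosedEmbedding.isClosed_range.closure_eq]
  let ξ : Fin r → Y := fun i => e i (genericPoint (E i))
  have hξ : ∀ i j, i ≠ j → ξ i ∉ ((I j).support : Set Y) := fun i j h =>
    genPt_notMem (e i) (e j) (hE i) (hE j) (hdist i j h)
  -- the divisor of a function vanishing at the closed point
  obtain ⟨K, hK, hspK, p, hpK, hpne⟩ := exists_principal hdimR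
  have hπη : π (genericPoint Y) = genericPoint (Spec (CommRingCat.of R)) := (birat_generic π U hUne).1
  let D := K.comap π
  have hD : BlowUp.IsEffCartierIdeal D := RatBlow.cartier_comap_dominant π hπη hK
  have hDsupp : ∀ z : Y, z ∈ (D.support : Set Y) ↔ π z ∈ (K.support : Set (Spec (CommRingCat.of R))) := fun z => by
    show z ∈ ((K.comap π).support : Set Y) ↔ _
    rw [Scheme.IdealSheafData.support_comap]
    rfl
  obtain ⟨J, a, hJ, heq, hout⟩ := exists_residual I hI ξ (fun i => (hsI i).symm.subset ⟨_, rfl⟩)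
    (fun i J' h => le_ker_of_mem_support (e i) J' h) hD
  have hsplit : ∀ z, z ∈ (D.support : Set Y) →
      z ∈ (J.support : Set Y) ∨ ∃ j, a j ≠ 0 ∧ z ∈ ((I j).support : Set Y) := fun z hz => by
    rw [heq, Scheme.IdealSheafData.support_mul] at hz
    rcases hz with h | h
    · exact Or.inl h
    · exact Or.inr (mem_support_prod _ _ _ h)
  have ha : ∀ i, 0 < a i := fun i => Nat.pos_of_ne_zero fun h0 => by
    rcases hsplit (ξ i) ((hDsupp _).2 (by rw [hfib]; exact hspK)) with h | ⟨j, hj, h⟩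
    · exact hout i h
    · by_cases hji : j = i
      · exact hj (hji ▸ h0)
      · exact hξ i j (Ne.symm hji) h
  -- the residual divisor meets the closed fibre
  obtain ⟨i₀, z₀, hz₀⟩ : ∃ i z, e i z ∈ (J.support : Set Y) := by
    obtain ⟨q, hq⟩ := (π ∣_ U).surjective ⟨p, (hU p).2 hpne⟩
    have hqp : π q.1 = p := (morphismRestrict_base_coe π U q).symm.trans (congrArg Subtype.val hq)
    have hqJ : q.1 ∈ (J.support : Set Y) := by
      rcases hsplit q.1 ((hDsupp _).2 (hqp.symm ▸ hpK)) with h | ⟨j, -, h⟩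
      · exact h
      · obtain ⟨z, hz⟩ := (hsI j).subset h
        exact absurd (by rw [← hqp, ← hz, hfib]) hpne
    have hcl : IsClosed (π '' (J.support : Set Y)) := π.isClosedMap _ J.support.isClosed
    obtain ⟨y, hy, hys⟩ := (IsLocalRing.specializes_closedPoint p).mem_closed hcl ⟨q.1, hqJ, hqp⟩
    obtain ⟨i, z, hz⟩ := hcov y fun h => (hU _).1 h hys
    exact ⟨i, z, hz ▸ hy⟩
  -- the matrix
  let M : Fin r → Fin r → ℤ := fun i j => degM (s i) (e i) (L j)
  have hMI : ∀ i j, M i j = - degM (s i) (e i) (ClSub.idealMod (I j)) := fun i j =>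
    degM_inverse (s i) (e i) (hd i) (hI j) (hL j)
  have hoff : ∀ i j, i ≠ j →
      0 ≤ M i j ∧ ((∃ z, e i z ∈ ((I j).support : Set Y)) → 0 < M i j) := fun i j h =>
    degM_nonneg (s i) (e i) (hd i) (hI j) (hξ i j h) (hL j)
  have hsym : ∀ i j, M i j = M j i := fun i j => by
    by_cases h : i = j
    · rw [h]
    · show degM (s i) (e i) (L j) = degM (s j) (e j) (L i)
      rw [degM_eq_h0 (s i) (e i) (hd i) (hI j) (hξ i j h) (hL j),
        degM_eq_h0 (s j) (e j) (hd j) (hI i) (hξ j i (Ne.symm h)) (hL i)]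
      have h1 := length_quotMod_sup π (s i) (e i) (hs i) (I j)
      have h2 := length_quotMod_sup π (s j) (e j) (hs j) (I i)
      rw [show I j ⊔ (e i).ker = I i ⊔ (e j).ker from sup_comm _ _] at h1
      exact_mod_cast h1.symm.trans h2
  have hrow : ∀ i, ∑ j, (a j : ℤ) * M i j ≤ 0 ∧
      ((∃ z, e i z ∈ (J.support : Set Y)) → ∑ j, (a j : ℤ) * M i j < 0) := by
    intro i
    obtain ⟨hP, hsum⟩ := degM_idealMod_prod (s i) (e i) (hd i) Finset.univ (fun j => I j ^ a j)
      fun j => DivPart.cartier_pow (hI j) _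
    have h := degM_idealMod_mul (s i) (e i) (hd i) hJ hP
    rw [← heq, hsum] at h
    have h0 : degM (s i) (e i) (ClSub.idealMod D) = 0 := by
      obtain ⟨n⟩ := Nakai.nonempty_pullback_idealMod π hK hD
      obtain ⟨t⟩ := Castel.nonempty_pullback_point (e i ≫ π) sp
        (fun z => by rw [Scheme.Hom.comp_apply]; exact hfib i z) ((Groth.Agent.S8914.result _).2 hK)
      letI : (E i).Over (Spec (CommRingCat.of (IsLocalRing.ResidueField R))) := ⟨s i⟩
      rw [degM, Curv2.deg, CurveRR.euler_eq_of_iso ((Scheme.Modules.pullback (e i)).mapIso n.symm ≪≫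
        (Scheme.Modules.pullbackComp (e i) π).app _ ≪≫ t)]
      simp
    obtain ⟨LJ, -, hLJ⟩ := Castel.exists_inverse_module ((Groth.Agent.S8914.result _).2 hJ)
    obtain ⟨hn1, hn2⟩ := degM_nonneg (s i) (e i) (hd i) hJ (hout i) hLJ
    have hi := degM_inverse (s i) (e i) (hd i) hJ hLJ
    have h' : ∑ j, (a j : ℤ) * M i j = - degM (s i) (e i) LJ := by
      rw [Finset.sum_congr rfl fun j _ => by rw [hMI, mul_neg, ← degM_idealMod_pow (s i) (e i) (hd i) (hI j)],
        Finset.sum_neg_distrib]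
      omega
    rw [h']
    exact ⟨by omega, fun hz => by have := hn2 hz; omega⟩
  obtain ⟨hle, heq0⟩ := Castel.quad_nonpos M hsym (fun i j h => (hoff i j h).1) a ha (fun i => (hrow i).1) x
  refine lt_of_le_of_ne hle fun h0 => hx ?_
  obtain ⟨hprop, hstrict⟩ := heq0 h0
  have hi₀ : x i₀ = 0 := hstrict i₀ ((hrow i₀).2 ⟨z₀, hz₀⟩)
  -- the closed fibre is connected
  funext j
  by_contra hj
  let A : Set Y := ⋃ i ∈ {i | x i = 0}, Set.range (e i)
  let B : Set Y := ⋃ i ∈ {i | x i ≠ 0}, Set.range (e i)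
  have hA : IsClosed A := (Set.toFinite _).isClosed_biUnion fun i _ => (e i).isClosedEmbedding.isClosed_range
  have hB : IsClosed B := (Set.toFinite _).isClosed_biUnion fun i _ => (e i).isClosedEmbedding.isClosed_range
  have hcon := (PtBlow.isConnected_preimage π
    (PtBlow.bijective_app_of_birational π RatBlow.isNormal_spec U hUne) sp).isPreconnected
  have hAB : π ⁻¹' {sp} ⊆ A ∪ B := fun y hy => by
    obtain ⟨i, hi⟩ := hcov y fun h => (hU _).1 h hy
    by_cases h : x i = 0
    · exact Or.inl (Set.mem_biUnion (x := i) h hi)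
    · exact Or.inr (Set.mem_biUnion (x := i) h hi)
  obtain ⟨y, -, hyA, hyB⟩ := isPreconnected_closed_iff.1 hcon A B hA hB hAB
    ⟨e i₀ z₀, hfib i₀ z₀, Set.mem_biUnion (x := i₀) hi₀ ⟨z₀, rfl⟩⟩
    ⟨e j (genericPoint (E j)), hfib j _, Set.mem_biUnion (x := j) hj ⟨_, rfl⟩⟩
  obtain ⟨i, hi, z, hz⟩ := Set.mem_iUnion₂.1 hyA
  obtain ⟨k, hk, hzk⟩ := Set.mem_iUnion₂.1 hyB
  have hik : i ≠ k := fun e => hk (e ▸ hi)
  have hpos := (hoff i k hik).2 ⟨z, (hsI k).symm.subset (hz ▸ hzk)⟩
  have h := hprop i k hpos.ne'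
  rw [show x i = 0 from hi, zero_mul] at h
  exact hk ((mul_eq_zero.1 h.symm).resolve_right (Nat.cast_ne_zero.2 (ha i).ne'))

end Groth.Agent.NegDef
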